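import Groth.Agent.Lib.ModM1.Affine
import Mathlib

/-!
# Closed subsets avoiding a fibre, descended to a base of finite presentation
-/

set_option autoImplicit false
set_option backward.isDefEq.respectTransparency false
set_option backward.isDefEq.respectTransparency.types false
set_option linter.style.haveILetI false
universe u

open CategoryTheory CategoryTheory.Limits AlgebraicGeometry TensorProduct

namespace Groth.Agent.FibreAvoid13

variable {A R B : Type u} [CommRing A] [CommRing R] [CommRing B] [Algebra A R] [Algebra A B]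

/-- A function vanishing on a closed set and nowhere zero on a fibre avoided by it. -/
theorem exists_fun (p : PrimeSpectrum B) (K : Set (PrimeSpectrum (R ⊗[A] B))) (hK : IsClosed K)
    (hKp : ∀ Q ∈ K, PrimeSpectrum.comap (Algebra.TensorProduct.includeRight (R := A) (A := R) (B := B)).toRingHom Q ≠ p) :
    ∃ j : R ⊗[A] B, (∀ Q ∈ K, j ∈ Q.asIdeal) ∧
      ∀ Q : PrimeSpectrum (R ⊗[A] B),
        PrimeSpectrum.comap (Algebra.TensorProduct.includeRight (R := A) (A := R) (B := B)).toRingHom Q = p →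
          j ∉ Q.asIdeal := by
  obtain ⟨J, rfl⟩ := (PrimeSpectrum.isClosed_iff_zeroLocus_ideal K).1 hK
  let ι := (Algebra.TensorProduct.includeRight (R := A) (A := R) (B := B)).toRingHom
  let I : Ideal (R ⊗[A] B) := J ⊔ p.asIdeal.map ι
  have hne : ¬ Disjoint (I : Set (R ⊗[A] B)) ↑(p.asIdeal.primeCompl.map (ι : B →* R ⊗[A] B)) := by
    intro hd
    obtain ⟨Q, hQ, hle, hdis⟩ := Ideal.exists_le_prime_disjoint I _ hd
    refine hKp ⟨Q, hQ⟩ (SetLike.coe_subset_coe.2 (le_sup_left.trans hle)) (PrimeSpectrum.ext ?_)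
    refine le_antisymm (fun b hb => ?_) (Ideal.map_le_iff_le_comap.1 (le_sup_right.trans hle))
    by_contra hbp
    exact Set.disjoint_left.1 hdis hb ⟨b, hbp, rfl⟩
  obtain ⟨x, hxI, b, hb, rfl⟩ := Set.not_disjoint_iff.1 hne
  obtain ⟨j, hj, r, hr, hjr⟩ := Submodule.mem_sup.1 hxI
  refine ⟨j, fun Q hQ => hQ hj, fun Q hQ hjQ => ?_⟩
  have hr' : r ∈ Q.asIdeal := Ideal.map_le_iff_le_comap.2 (le_of_eq (by rw [← hQ]; rfl)) hr
  have : b ∈ (PrimeSpectrum.comap ι Q).asIdeal := by
    show ι b ∈ Q.asIdeal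
    rw [show ι b = j + r from hjr.symm]
    exact add_mem hjQ hr'
  exact hb ((congrArg (fun q : PrimeSpectrum B => b ∈ q.asIdeal) hQ).mp this)

/-- An element of a tensor product comes from every algebra covering finitely many elements. -/
theorem exists_finset_lift (j : R ⊗[A] B) :
    ∃ s : Finset B, ∀ (C : Type u) [CommRing C] [Algebra A C] (χ : C →ₐ[A] B), (↑s : Set B) ⊆ Set.range χ →
      j ∈ Set.range (Algebra.TensorProduct.map (AlgHom.id A R) χ) := by
  classical
  induction j using TensorProduct.induction_on with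
  | zero => exact ⟨∅, fun C _ _ χ _ => ⟨0, map_zero _⟩⟩
  | tmul r b =>
    refine ⟨{b}, fun C _ _ χ h => ?_⟩
    obtain ⟨c, rfl⟩ := h (Finset.mem_coe.2 (Finset.mem_singleton_self b))
    exact ⟨r ⊗ₜ c, by simp⟩
  | add x y hx hy =>
    obtain ⟨s, hs⟩ := hx
    obtain ⟨t, ht⟩ := hy
    refine ⟨s ∪ t, fun C _ _ χ h => ?_⟩
    rw [Finset.coe_union, Set.union_subset_iff] at h
    obtain ⟨a, rfl⟩ := hs C χ h.1
    obtain ⟨c, rfl⟩ := ht C χ h.2
    exact ⟨a + c, map_add _ _ _⟩

variable {C : Type u} [CommRing C] [Algebra A C]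

theorem isPullback_map (χ : C →ₐ[A] B) :
    IsPullback (Spec.map (CommRingCat.ofHom (Algebra.TensorProduct.map (AlgHom.id A R) χ).toRingHom))
      (Spec.map (CommRingCat.ofHom (Algebra.TensorProduct.includeRight (R := A) (A := R) (B := B)).toRingHom))
      (Spec.map (CommRingCat.ofHom (Algebra.TensorProduct.includeRight (R := A) (A := R) (B := C)).toRingHom))
      (Spec.map (CommRingCat.ofHom χ.toRingHom)) := by
  have hB := isPullback_SpecMap_of_isPushout _ _ _ _ (CommRingCat.isPushout_tensorProduct A R B)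
  have hC := isPullback_SpecMap_of_isPushout _ _ _ _ (CommRingCat.isPushout_tensorProduct A R C)
  have e : CommRingCat.ofHom (algebraMap A C) ≫ CommRingCat.ofHom χ.toRingHom = CommRingCat.ofHom (algebraMap A B) := by
    rw [← CommRingCat.ofHom_comp]; congr 1; exact χ.comp_algebraMap
  rw [← e, Spec.map_comp] at hB
  have e1 : CommRingCat.ofHom Algebra.TensorProduct.includeLeftRingHom ≫
      CommRingCat.ofHom (Algebra.TensorProduct.map (AlgHom.id A R) χ).toRingHom =
      CommRingCat.ofHom (Algebra.TensorProduct.includeLeftRingHom (R := A) (A := R) (B := B)) := by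
    ext r
    simp
  rw [← e1, Spec.map_comp] at hB
  refine IsPullback.of_right hB ?_ hC
  rw [← Spec.map_comp, ← Spec.map_comp]
  congr 1

/-- Points of a fibre lift along a change of the base point. -/
theorem exists_point_over (χ : C →ₐ[A] B) (p : PrimeSpectrum B) (Q' : PrimeSpectrum (R ⊗[A] C))
    (h : PrimeSpectrum.comap (Algebra.TensorProduct.includeRight (R := A) (A := R) (B := C)).toRingHom Q' =
      PrimeSpectrum.comap χ.toRingHom p) :
    ∃ Q : PrimeSpectrum (R ⊗[A] B),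
      PrimeSpectrum.comap (Algebra.TensorProduct.map (AlgHom.id A R) χ).toRingHom Q = Q' ∧
        PrimeSpectrum.comap (Algebra.TensorProduct.includeRight (R := A) (A := R) (B := B)).toRingHom Q = p := by
  obtain ⟨Q, h1, h2⟩ := Scheme.exists_preimage_of_isPullback (isPullback_map (R := R) χ) Q' p h
  exact ⟨Q, h1, h2⟩

variable {X S T : Scheme.{u}}

theorem exists_fp_nhd_avoiding (f : X ⟶ S) [QuasiCompact f] (g : T ⟶ S) (t : T)
    (Z : Set ↥(pullback f g)) (hZ : IsClosed Z) (hZt : ∀ z ∈ Z, pullback.snd f g z ≠ t) :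
    ∃ (V : T.Opens) (ht : t ∈ V) (T' : Scheme.{u}) (b : T' ⟶ S) (a : (V : Scheme.{u}) ⟶ T')
      (n : pullback f (V.ι ≫ g) ⟶ pullback f g) (m : pullback f (V.ι ≫ g) ⟶ pullback f b)
      (Z' : Set ↥(pullback f b)),
      IsAffineOpen V ∧ IsAffine T' ∧ LocallyOfFinitePresentation b ∧ a ≫ b = V.ι ≫ g ∧
      n ≫ pullback.fst f g = pullback.fst f (V.ι ≫ g) ∧ n ≫ pullback.snd f g = pullback.snd f (V.ι ≫ g) ≫ V.ι ∧
      m ≫ pullback.fst f b = pullback.fst f (V.ι ≫ g) ∧ m ≫ pullback.snd f b = pullback.snd f (V.ι ≫ g) ≫ a ∧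
      IsClosed Z' ∧ (∀ z' ∈ Z', pullback.snd f b z' ≠ a ⟨t, ht⟩) ∧
      ∀ z : ↥(pullback f (V.ι ≫ g)), n z ∈ Z → m z ∈ Z' := by
  classical
  obtain ⟨W, hW, hgW, -⟩ := exists_isAffineOpen_mem_and_subset (U := (⊤ : S.Opens)) (x := g t) trivial
  obtain ⟨V, hV, htV, hVW⟩ := exists_isAffineOpen_mem_and_subset (U := g ⁻¹ᵁ W) (x := t) hgW
  replace hVW : V ≤ g ⁻¹ᵁ W := hVW
  obtain ⟨K, hK, U, hUaff, hUcov⟩ : ∃ (K : Type u) (_ : Finite K) (U : K → X.Opens),
      (∀ k, IsAffineOpen (U k)) ∧ f ⁻¹ᵁ W = ⨆ k, U k := by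
    obtain ⟨U, hUfin, hU⟩ := Groth.Agent.M1.exists_finite_affine_iSup (X := X) (U := f ⁻¹ᵁ W)
      (f.isCompact_preimage hW.isCompact)
    exact ⟨U, hUfin.to_subtype, fun k => k.1.1, fun k => k.1.2, hU⟩
  have hUW : ∀ k : K, U k ≤ f ⁻¹ᵁ W := fun k => (le_iSup U k).trans hUcov.ge
  letI : Algebra Γ(S, W) Γ(T, V) := (g.appLE W V hVW).hom.toAlgebra
  letI : ∀ k : K, Algebra Γ(S, W) Γ(X, U k) := fun k => (f.appLE W (U k) (hUW k)).hom.toAlgebra
  haveI : IsAffine V := hV
  let isoV : Spec Γ(T, V) ⟶ (V : Scheme.{u}) := hV.isoSpec.inv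
  have hisoV : isoV ≫ V.ι = hV.fromSpec := rfl
  let n : pullback f (V.ι ≫ g) ⟶ pullback f g := pullback.map _ _ _ _ (𝟙 _) V.ι (𝟙 _) (by simp) (by simp)
  let p : PrimeSpectrum Γ(T, V) := hV.primeIdealOf ⟨t, htV⟩
  have hpt : isoV p = ⟨t, htV⟩ := Subtype.ext (hV.fromSpec_primeIdealOf ⟨t, htV⟩)
  -- the pieces over the limit
  have hgV : isoV ≫ V.ι ≫ g = Spec.map (CommRingCat.ofHom (algebraMap Γ(S, W) Γ(T, V))) ≫ hW.fromSpec := by
    rw [← Category.assoc, hisoV]; exact (IsAffineOpen.SpecMap_appLE_fromSpec g hW hV hVW).symm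
  have hfU : ∀ k : K, Spec.map (CommRingCat.ofHom (algebraMap Γ(S, W) Γ(X, U k))) ≫ hW.fromSpec =
      (hUaff k).fromSpec ≫ f := fun k => IsAffineOpen.SpecMap_appLE_fromSpec f hW (hUaff k) (hUW k)
  let e : ∀ k : K, Spec (CommRingCat.of (Γ(X, U k) ⊗[Γ(S, W)] Γ(T, V))) ⟶ pullback f (V.ι ≫ g) := fun k =>
    (pullbackSpecIso Γ(S, W) Γ(X, U k) Γ(T, V)).inv ≫
      pullback.map _ _ _ _ (hUaff k).fromSpec isoV hW.fromSpec (hfU k) hgV.symm
  have he_snd : ∀ k, e k ≫ pullback.snd f (V.ι ≫ g) = Spec.map (CommRingCat.ofHom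
      (Algebra.TensorProduct.includeRight (R := Γ(S, W)) (A := Γ(X, U k)) (B := Γ(T, V))).toRingHom) ≫ isoV := fun k => by
    simp only [e, Category.assoc, pullback.lift_snd]
    rw [← Category.assoc, pullbackSpecIso_inv_snd]
    rfl
  have he_range : ∀ k : K, Set.range (e k) = pullback.fst f (V.ι ≫ g) ⁻¹' (U k : Set X) := fun k => by
    rw [Scheme.Hom.comp_base, TopCat.coe_comp, Set.range_comp, (pullbackSpecIso _ _ _).inv.surjective.range_eq,
      Set.image_univ, Scheme.Pullback.range_map]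
    erw [(hUaff k).range_fromSpec]
    erw [show Set.range isoV = Set.univ from hV.isoSpec.inv.surjective.range_eq]
    rw [Set.preimage_univ, Set.inter_univ]
  have hfun : ∀ k : K, ∃ j : Γ(X, U k) ⊗[Γ(S, W)] Γ(T, V),
      (∀ Q, n (e k Q) ∈ Z → j ∈ Q.asIdeal) ∧ ∀ Q : PrimeSpectrum _, PrimeSpectrum.comap
        (Algebra.TensorProduct.includeRight (R := Γ(S, W)) (A := Γ(X, U k)) (B := Γ(T, V))).toRingHom Q = p →
          j ∉ Q.asIdeal := by
    intro k
    refine exists_fun p {Q | n (e k Q) ∈ Z} (hZ.preimage (e k ≫ n).continuous) fun Q hQ hQp => hZt _ hQ ?_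
    rw [← Scheme.Hom.comp_apply, pullback.lift_snd, Scheme.Hom.comp_apply, ← Scheme.Hom.comp_apply (e k), he_snd]
    exact congrArg Subtype.val ((congrArg isoV hQp).trans hpt)
  choose j hjZ hjp using hfun
  choose s hs using fun k => exists_finset_lift (j k)
  haveI := Fintype.ofFinite K
  let σ : Finset Γ(T, V) := Finset.univ.biUnion s
  let C : Type u := MvPolynomial σ Γ(S, W)
  let χ : C →ₐ[Γ(S, W)] Γ(T, V) := MvPolynomial.aeval fun i : σ => (i : Γ(T, V))
  have hlift : ∀ k : K, ∃ j', Algebra.TensorProduct.map (AlgHom.id Γ(S, W) Γ(X, U k)) χ j' = j k := fun k =>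
    hs k C χ fun x hx => ⟨MvPolynomial.X ⟨x, Finset.mem_biUnion.2 ⟨k, Finset.mem_univ k, hx⟩⟩,
      MvPolynomial.aeval_X _ _⟩
  choose j' hj' using hlift
  let T' : Scheme.{u} := Spec (CommRingCat.of C)
  let b : T' ⟶ S := Spec.map (CommRingCat.ofHom (algebraMap Γ(S, W) C)) ≫ hW.fromSpec
  let a : (V : Scheme.{u}) ⟶ T' := hV.isoSpec.hom ≫ Spec.map (CommRingCat.ofHom χ.toRingHom)
  have hab : a ≫ b = V.ι ≫ g := by
    simp only [a, b, Category.assoc, ← Spec.map_comp_assoc, ← CommRingCat.ofHom_comp]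
    rw [show χ.toRingHom.comp (algebraMap Γ(S, W) C) = algebraMap Γ(S, W) Γ(T, V) from χ.comp_algebraMap, ← hgV,
      Iso.hom_inv_id_assoc]
  haveI : LocallyOfFinitePresentation b := by
    haveI : LocallyOfFinitePresentation (Spec.map (CommRingCat.ofHom (algebraMap Γ(S, W) C))) :=
      (HasRingHomProperty.Spec_iff (P := @LocallyOfFinitePresentation)).2
        (RingHom.finitePresentation_algebraMap.2 inferInstance)
    infer_instance
  let m : pullback f (V.ι ≫ g) ⟶ pullback f b := pullback.map _ _ _ _ (𝟙 _) a (𝟙 _) (by simp) (by simp [hab])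
  let e' : ∀ k : K, Spec (CommRingCat.of (Γ(X, U k) ⊗[Γ(S, W)] C)) ⟶ pullback f b := fun k =>
    (pullbackSpecIso Γ(S, W) Γ(X, U k) C).inv ≫
      pullback.map _ _ _ _ (hUaff k).fromSpec (𝟙 T') hW.fromSpec (hfU k) (Category.id_comp _).symm
  have hcomm : ∀ k : K, e k ≫ m = Spec.map (CommRingCat.ofHom
      (Algebra.TensorProduct.map (AlgHom.id Γ(S, W) Γ(X, U k)) χ).toRingHom) ≫ e' k := fun k => by
    apply pullback.hom_ext
    · simp only [e, e', m, Category.assoc, pullback.lift_fst, pullback.lift_fst_assoc, Category.comp_id]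
      rw [← Category.assoc, pullbackSpecIso_inv_fst, ← Category.assoc _ (pullback.fst _ _) _,
        pullbackSpecIso_inv_fst, ← Category.assoc, ← Spec.map_comp]
      congr 2
      ext r
      simp
    · simp only [e, e', m, Category.assoc, pullback.lift_snd, pullback.lift_snd_assoc, Category.comp_id]
      rw [pullbackSpecIso_inv_snd_assoc, pullbackSpecIso_inv_snd_assoc]
      erw [Category.comp_id]
      rw [← Spec.map_comp]
      simp only [a, isoV, Iso.inv_hom_id_assoc, ← Spec.map_comp]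
      congr 1
  let Z' : Set ↥(pullback f b) := ⋂ k : K, ((e' k) '' (PrimeSpectrum.basicOpen (j' k) : Set (PrimeSpectrum _)))ᶜ
  refine ⟨V, htV, T', b, a, n, m, Z', hV, inferInstance, inferInstance, hab, by simp [n], by simp [n],
    by simp [m], by simp [m], isClosed_iInter fun k => ?_, fun z' hz' hz't => ?_, fun z hz => ?_⟩
  · exact ((e' k).isOpenEmbedding.isOpenMap _ (PrimeSpectrum.basicOpen (j' k)).2).isClosed_compl
  · have hfW : pullback.fst f b z' ∈ f ⁻¹ᵁ W := by
      show f (pullback.fst f b z') ∈ W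
      rw [← Scheme.Hom.comp_apply, pullback.condition, Scheme.Hom.comp_apply]
      exact hW.range_fromSpec.le ⟨_, rfl⟩
    obtain ⟨k, hzk⟩ : ∃ k : K, pullback.fst f b z' ∈ U k := by
      rw [hUcov] at hfW
      exact TopologicalSpace.Opens.mem_iSup.1 hfW
    obtain ⟨Q', hQ'⟩ : z' ∈ Set.range (e' k) := by
      rw [Scheme.Hom.comp_base, TopCat.coe_comp, Set.range_comp, (pullbackSpecIso _ _ _).inv.surjective.range_eq,
        Set.image_univ, Scheme.Pullback.range_map]
      erw [(hUaff k).range_fromSpec]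
      exact ⟨hzk, _, rfl⟩
    have hQ'p : PrimeSpectrum.comap (Algebra.TensorProduct.includeRight (R := Γ(S, W)) (A := Γ(X, U k))
        (B := C)).toRingHom Q' = PrimeSpectrum.comap χ.toRingHom p := by
      have h1 : e' k ≫ pullback.snd f b = Spec.map (CommRingCat.ofHom
          (Algebra.TensorProduct.includeRight (R := Γ(S, W)) (A := Γ(X, U k)) (B := C)).toRingHom) := by
        simp only [e', Category.assoc, pullback.lift_snd, Category.comp_id]
        rw [pullbackSpecIso_inv_snd_assoc]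
        exact Category.comp_id _
      have h2 : a ⟨t, htV⟩ = PrimeSpectrum.comap χ.toRingHom p := by
        rw [← hpt, ← Scheme.Hom.comp_apply, Iso.inv_hom_id_assoc]; rfl
      rw [← hQ', ← Scheme.Hom.comp_apply, h1, h2] at hz't
      exact hz't
    obtain ⟨Q, hQ1, hQ2⟩ := exists_point_over χ p Q' hQ'p
    refine Set.mem_iInter.1 hz' k ⟨Q', fun h => hjp k Q hQ2 ?_, hQ'⟩
    rw [← hQ1] at h
    rw [← hj' k]
    exact h
  · refine Set.mem_iInter.2 fun k => ?_
    rintro ⟨Q', hQ', hQz⟩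
    obtain ⟨Q, rfl⟩ : z ∈ Set.range (e k) := by
      rw [he_range, Set.mem_preimage]
      have h1 : pullback.fst f (V.ι ≫ g) z = (e' k ≫ pullback.fst f b) Q' := by
        rw [Scheme.Hom.comp_apply, hQz, ← Scheme.Hom.comp_apply, pullback.lift_fst, Category.comp_id]
      rw [h1, show e' k ≫ pullback.fst f b = (pullbackSpecIso Γ(S, W) Γ(X, U k) C).inv ≫ pullback.fst _ _ ≫
        (hUaff k).fromSpec by simp [e'], Scheme.Hom.comp_apply, Scheme.Hom.comp_apply]
      exact (hUaff k).range_fromSpec.le ⟨_, rfl⟩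
    rw [← Scheme.Hom.comp_apply, hcomm, Scheme.Hom.comp_apply] at hQz
    apply hQ'
    rw [(e' k).isOpenEmbedding.injective hQz]
    show Algebra.TensorProduct.map (AlgHom.id Γ(S, W) Γ(X, U k)) χ (j' k) ∈ Q.asIdeal
    rw [hj' k]
    exact hjZ k Q hz

end Groth.Agent.FibreAvoid13
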